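import Cfsg.Agent.Lib.Sporadic.HNGroup.Structure
import Cfsg.Prelude.Def_SporadicB

/-!
# The subgroup of the presented Harada–Norton group (owner: helper25)
-/

set_option autoImplicit false
set_option maxRecDepth 20000

namespace CfsgLib.Sporadic.HNGroup

open Cfsg CfsgLib.ThreeTrans.Leech CfsgLib.Sporadic CfsgLib.Sporadic.Lattice CfsgLib.Sporadic.Conway
open CfsgLib.Sporadic.HsMult (act act_injective sporEquiv)
open scoped commutatorElement

theorem center_Q : Subgroup.center ↥Q = tauQ.ker := by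
  refine le_antisymm ?_ ker_central
  intro q hq
  rw [← ker_toSimple, MonoidHom.mem_ker]
  have hmem : toSimple q ∈ Subgroup.center ↥act.range := by
    rw [Subgroup.mem_center_iff]
    intro r
    obtain ⟨p, rfl⟩ := toSimple_surjective r
    rw [← map_mul, ← map_mul, Subgroup.mem_center_iff.1 hq p]
  rcases (inferInstance : (Subgroup.center ↥act.range).Normal).eq_bot_or_eq_top with h | h
  · rwa [h, Subgroup.mem_bot] at hmem
  · exfalso
    let _ : CommGroup ↥act.range :=
      { (inferInstance : Group ↥act.range) with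
        mul_comm := fun a b => (Subgroup.mem_center_iff.1 (h ▸ Subgroup.mem_top a : a ∈ Subgroup.center _) b).symm }
    have hp := IsSimpleGroup.prime_card (α := ↥act.range)
    rw [card_range_act] at hp
    norm_num at hp

theorem toHN_injOn {q : P0} (hq : q ∈ Q) (h : toHN q = 1) : q = 1 := by
  classical
  set f := toHN.comp Q.subtype with hf
  suffices hbot : f.ker = ⊥ by
    have : (⟨q, hq⟩ : ↥Q) ∈ f.ker := h
    rw [hbot, Subgroup.mem_bot] at this
    exact congrArg Subtype.val this
  have : (f.ker.map toSimple).Normal := Subgroup.Normal.map inferInstance _ toSimple_surjective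
  rcases this.eq_bot_or_eq_top with hb | ht
  · rw [Subgroup.map_eq_bot_iff, ker_toSimple] at hb
    refine (Subgroup.eq_bot_iff_forall _).2 fun k hk => by_contra fun hne => ?_
    let c' : tauQ.ker := ⟨⟨c, c_mem_Q⟩, by simp [tauQ, pi_c]⟩
    let k' : tauQ.ker := ⟨k, hb hk⟩
    have hc1 : c' ≠ 1 := fun e => c_ne_one (congrArg (fun t : tauQ.ker => ((t : ↥Q) : P0)) e)
    have hkc : k' ≠ c' := fun e => toHN_c_ne (by
      have e' : k = ⟨c, c_mem_Q⟩ := congrArg Subtype.val e
      have := MonoidHom.mem_ker.1 hk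
      rwa [e'] at this)
    have hk1 : k' ≠ 1 := fun e => hne (congrArg Subtype.val e)
    have : Fintype tauQ.ker := Fintype.ofFinite _
    have hle : ({1, c', k'} : Finset tauQ.ker).card ≤ Fintype.card tauQ.ker := Finset.card_le_univ _
    rw [← Nat.card_eq_fintype_card, card_ker_two, Finset.card_insert_of_notMem (by simp [hc1.symm, hk1.symm]),
      Finset.card_pair hkc.symm] at hle
    omega
  · exfalso
    have hdec : ∀ a : ↥Q, ∃ k ∈ f.ker, k⁻¹ * a ∈ Subgroup.center ↥Q := fun a => by
      obtain ⟨k, hk, e⟩ : toSimple a ∈ f.ker.map toSimple := by rw [ht]; exact Subgroup.mem_top _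
      refine ⟨k, hk, ?_⟩
      rw [center_Q, ← ker_toSimple, MonoidHom.mem_ker, map_mul, map_inv, e, inv_mul_cancel]
    have hcomm : ∀ a b : ↥Q, f a * f b = f b * f a := fun a b => by
      obtain ⟨k, hk, hz⟩ := hdec a
      have e : f a = f (k⁻¹ * a) := by rw [map_mul, map_inv, MonoidHom.mem_ker.1 hk, inv_one, one_mul]
      rw [e, ← map_mul, ← map_mul, Subgroup.mem_center_iff.1 hz b]
    have htop : (⊤ : Subgroup ↥Q) ≤ f.ker := by
      rw [← perfect_Q, commutator_def, Subgroup.commutator_le]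
      intro a _ b _
      rw [MonoidHom.mem_ker, map_commutatorElement, commutatorElement_eq_one_iff_mul_comm]
      exact hcomm a b
    exact toHN_c_ne (MonoidHom.mem_ker.1 (htop (Subgroup.mem_top (⟨c, c_mem_Q⟩ : ↥Q))))

theorem z_image_not_mem : toHN (L 4) ∉ Q.map toHN := by
  rintro ⟨q, hq, e⟩
  set g := L 4 * q⁻¹ with hg
  have hg1 : toHN g = 1 := by rw [hg, map_mul, map_inv, e, mul_inv_cancel]
  have hsign : Equiv.Perm.sign (pi g) = -1 := by
    rw [hg, map_mul, map_mul, sign_pi_z, sign_Q (inv_mem hq), mul_one]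
  have hgg : g * g = 1 := toHN_injOn (sq_mem_Q g) (by rw [map_mul, hg1, mul_one])
  have hcomm : ∀ a : P0, a * g = g * a := by
    intro a
    have h1 : ⁅a, g⁆ ∈ Q := Subgroup.commutator_mem_commutator (Subgroup.mem_top _) (Subgroup.mem_top _)
    exact commutatorElement_eq_one_iff_mul_comm.1 (toHN_injOn h1 (by
      rw [map_commutatorElement, hg1, commutatorElement_one_right]))
  have hne : ∀ i : Fin 100, pi g i ≠ i := by
    intro i hi
    have hall : pi g = 1 := by
      refine Equiv.ext fun j => ?_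
      obtain ⟨a, ha⟩ := pi_transitive i
      obtain ⟨b, hb⟩ := pi_transitive j
      have hm : j = pi (b * a⁻¹) i := by
        rw [← ha, ← Equiv.Perm.mul_apply, ← map_mul, inv_mul_cancel_right, hb]
      rw [hm, ← Equiv.Perm.mul_apply, ← map_mul, ← hcomm, map_mul, Equiv.Perm.mul_apply, hi, Equiv.Perm.one_apply]
    rw [hall, map_one] at hsign
    exact absurd hsign (by decide)
  have hsupp : (pi g).support = Finset.univ :=
    Finset.eq_univ_of_forall fun i => Equiv.Perm.mem_support.2 (hne i)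
  have hcyc : ∀ n ∈ (pi g).cycleType, n = 2 := by
    intro n hn
    have h2 : orderOf (pi g) ∣ 2 := orderOf_dvd_of_pow_eq_one (by rw [pow_two, ← map_mul, hgg, map_one])
    have h3 : n ∣ 2 := (Equiv.Perm.dvd_of_mem_cycleType hn).trans h2
    have h4 := Equiv.Perm.two_le_of_mem_cycleType hn
    have := Nat.le_of_dvd two_pos h3
    omega
  have hsum : (pi g).cycleType.sum = 100 := by
    rw [Equiv.Perm.sum_cycleType, hsupp, Finset.card_univ, Fintype.card_fin]
  have hrep := Multiset.eq_replicate_card.2 hcyc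
  have hcard : (pi g).cycleType.card = 50 := by
    have := hsum
    rw [hrep, Multiset.sum_replicate, smul_eq_mul] at this
    omega
  rw [Equiv.Perm.sign_of_cycleType, hsum, hcard] at hsign
  exact absurd hsign (by decide)

/-- A property transferred along an isomorphism. -/
theorem nonsplit_congr {A B : Type*} [Group A] [Group B] {K : Type*} [Group K] (e : A ≃* B)
    (h : Cfsg.IsNonsplitDoubleCover A K) : Cfsg.IsNonsplitDoubleCover B K := by
  obtain ⟨h1, ⟨q⟩, h3⟩ := h
  have hc : (Subgroup.center A).map e.toMonoidHom = Subgroup.center B := by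
    ext b
    simp only [Subgroup.mem_map, MulEquiv.coe_toMonoidHom]
    constructor
    · rintro ⟨a, ha, rfl⟩
      rw [Subgroup.mem_center_iff]
      intro g
      obtain ⟨x, rfl⟩ := e.surjective g
      rw [← map_mul, ← map_mul, Subgroup.mem_center_iff.1 ha x]
    · intro hb
      refine ⟨e.symm b, Subgroup.mem_center_iff.2 fun x => e.injective ?_, e.apply_symm_apply b⟩
      rw [map_mul, map_mul, e.apply_symm_apply, Subgroup.mem_center_iff.1 hb]
  refine ⟨?_, ⟨(QuotientGroup.congr _ _ e hc).symm.trans q⟩, fun L hL => h3 (L.comap e.toMonoidHom) ?_⟩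
  · rw [← hc, Nat.card_congr ((Subgroup.center A).equivMapOfInjective e.toMonoidHom e.injective).toEquiv.symm, h1]
  · have hcc : (Subgroup.center B).comap e.toMonoidHom = Subgroup.center A := by
      rw [← hc, Subgroup.comap_map_eq_self_of_injective e.injective]
    refine Subgroup.isComplement'_of_disjoint_and_mul_eq_univ ?_ ?_
    · rw [← hcc, disjoint_iff, ← Subgroup.comap_inf, hL.disjoint.eq_bot, MonoidHom.comap_bot,
        (MonoidHom.ker_eq_bot_iff _).2 e.injective]
    · ext a
      simp only [Set.mem_univ, iff_true]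
      obtain ⟨⟨⟨z, hz⟩, ⟨l, hl⟩⟩, hzl⟩ := hL.2 (e a)
      refine ⟨e.symm z, ?_, e.symm l, ?_, ?_⟩
      · show e.symm z ∈ Subgroup.center A
        rw [← hcc, Subgroup.mem_comap, MulEquiv.coe_toMonoidHom, e.apply_symm_apply]; exact hz
      · show e (e.symm l) ∈ L
        rw [e.apply_symm_apply]; exact hl
      · apply e.injective
        show e (e.symm z * e.symm l) = e a
        rw [map_mul, e.apply_symm_apply, e.apply_symm_apply]
        exact hzl

theorem cover_Q : Cfsg.IsNonsplitDoubleCover ↥Q Spor.HS := by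
  have hcard : Nat.card (Subgroup.center ↥Q) = 2 := by rw [center_Q, card_ker_two]
  refine ⟨hcard, ⟨?_⟩, fun L hL => ?_⟩
  · exact ((QuotientGroup.quotientMulEquivOfEq (by rw [center_Q, ker_toSimple])).trans
      (QuotientGroup.quotientKerEquivOfSurjective toSimple toSimple_surjective)).trans
      ((MonoidHom.ofInjective act_injective).symm.trans sporEquiv)
  · have hdec : ∀ a : ↥Q, ∃ z ∈ Subgroup.center ↥Q, ∃ l ∈ L, z * l = a := fun a => by
      obtain ⟨⟨⟨z, hz⟩, ⟨l, hl⟩⟩, h⟩ := hL.2 a
      exact ⟨z, hz, l, hl, h⟩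
    have hall : (⊤ : Subgroup ↥Q) ≤ L := by
      rw [← perfect_Q, commutator_def, Subgroup.commutator_le]
      intro a _ b _
      obtain ⟨z, hz, l, hl, rfl⟩ := hdec a
      obtain ⟨z', hz', l', hl', rfl⟩ := hdec b
      have e1 : ∀ x, x * z = z * x := Subgroup.mem_center_iff.1 hz
      have e2 : ∀ x, x * z' = z' * x := Subgroup.mem_center_iff.1 hz'
      have : ⁅z * l, z' * l'⁆ = ⁅l, l'⁆ := by
        rw [commutatorElement_def, commutatorElement_def]
        calc z * l * (z' * l') * (z * l)⁻¹ * (z' * l')⁻¹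
            = z * (l * z') * l' * l⁻¹ * z⁻¹ * l'⁻¹ * z'⁻¹ := by group
          _ = z * (z' * l) * l' * l⁻¹ * z⁻¹ * l'⁻¹ * z'⁻¹ := by rw [e2 l]
          _ = z * (z' * (l * l' * l⁻¹)) * z⁻¹ * l'⁻¹ * z'⁻¹ := by group
          _ = (z' * (l * l' * l⁻¹)) * z * z⁻¹ * l'⁻¹ * z'⁻¹ := by rw [e1]
          _ = z' * (l * l' * l⁻¹ * l'⁻¹) * z'⁻¹ := by group
          _ = (l * l' * l⁻¹ * l'⁻¹) * z' * z'⁻¹ := by rw [e2]
          _ = _ := by group
      rw [this]
      exact mul_mem (mul_mem (mul_mem hl hl') (inv_mem hl)) (inv_mem hl')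
    have hbot : Subgroup.center ↥Q = ⊥ := by
      rw [eq_bot_iff, ← hL.disjoint.eq_bot, top_le_iff.1 hall]
      simp
    rw [hbot, Subgroup.card_bot] at hcard
    omega

/-- The statement's group has the cover as a normal subgroup of index two. -/
theorem exists_cover (H : Subgroup Spor.HN) (hH : H = toHN.range) :
    ∃ K : Subgroup H, K.Normal ∧ K.index = 2 ∧ Cfsg.IsNonsplitDoubleCover K Spor.HS := by
  subst hH
  let ψ : P0 →* ↥toHN.range := toHN.rangeRestrict
  have hψ : Function.Surjective ψ := toHN.rangeRestrict_surjective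
  have hnorm : (Q.map ψ).Normal := Subgroup.Normal.map inferInstance ψ hψ
  have hz : ψ (L 4) ∉ Q.map ψ := by
    rintro ⟨q, hq, e⟩
    exact z_image_not_mem ⟨q, hq, congrArg Subtype.val e⟩
  refine ⟨Q.map ψ, hnorm, ?_, ?_⟩
  · rw [Subgroup.index_eq_two_iff]
    refine ⟨ψ (L 4), fun b => ?_⟩
    obtain ⟨g, rfl⟩ := hψ b
    rcases Q_cases g with h | h
    · refine Or.inr ⟨⟨g, h, rfl⟩, fun h' => hz ?_⟩
      have := mul_mem (inv_mem (⟨g, h, rfl⟩ : ψ g ∈ Q.map ψ)) h'
      rwa [inv_mul_cancel_left] at this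
    · refine Or.inl ⟨⟨g * L 4, h, map_mul ψ _ _⟩, fun h' => hz ?_⟩
      have := mul_mem (inv_mem h') (⟨g * L 4, h, map_mul ψ _ _⟩ : ψ g * ψ (L 4) ∈ Q.map ψ)
      rwa [inv_mul_cancel_left] at this
  · have hinj : Function.Injective ((ψ.comp Q.subtype).codRestrict (Q.map ψ) fun q => ⟨q.1, q.2, rfl⟩) := by
      rw [injective_iff_map_eq_one]
      intro q hq
      exact Subtype.ext (toHN_injOn q.2 (congrArg (fun t : ↥(Q.map ψ) => ((t : ↥toHN.range) : Spor.HN)) hq))
    refine nonsplit_congr (MulEquiv.ofBijective _ ⟨hinj, ?_⟩) cover_Q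
    rintro ⟨_, q, hq, rfl⟩
    exact ⟨⟨q, hq⟩, rfl⟩

end CfsgLib.Sporadic.HNGroup
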