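import Cfsg.Agent.Lib.Sporadic.HNGroup.Letters
import Cfsg.Agent.Lib.Sporadic.HNSub.CX.Valid
import Cfsg.Agent.Lib.Sporadic.HNSub.C.Valid
import Cfsg.Agent.Lib.Sporadic.HNSub.A.Valid
import Cfsg.Agent.Lib.Sporadic.HNSub.X.Valid
import Cfsg.Agent.Lib.Sporadic.HNSub.P.Valid

/-!
# A bound for the order of the presented group (owner: helper25)
-/

set_option autoImplicit false
set_option maxRecDepth 20000

namespace CfsgLib.Sporadic.HNGroup

open CfsgLib.Sporadic CfsgLib.Sporadic.PairEnum

theorem cx_rels : HNSub.CX.cert.rels.all (fun w => decide (w ∈ words10)) = true := by decide +kernel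

theorem cx_subs : HNSub.CX.cert.subs = [] := rfl

theorem cx_closer : HNSub.CX.closers.map Prod.fst = [[0, 0, 0, 0]] := by decide +kernel

theorem L_x_four : L 0 * L 0 * L 0 * L 0 = 1 := by
  have hS := setup (MonoidHom.id P0) (C := HNSub.CX.cert) fun w hw =>
    L_rel (of_decide_eq_true (List.all_eq_true.1 cx_rels w hw))
  obtain ⟨e, he, he'⟩ := List.mem_map.1 (cx_closer ▸ List.mem_singleton_self ([0, 0, 0, 0] : List ℕ))
  have h := Cert.closer_eq_one hS HNSub.CX.base_ok HNSub.CX.defs_ok HNSub.CX.steps_ok cx_subs
    HNSub.CX.closers_ok e he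
  rw [he', prod_actLetter, inv_eq_one] at h
  simpa [mul_assoc] using h

/-- The central involution-to-be. -/
def c : P0 := L 0 * L 0

theorem c_sq : c * c = 1 := by rw [c, ← mul_assoc]; exact L_x_four

theorem c_inv : c⁻¹ = c := inv_eq_of_mul_eq_one_right c_sq

theorem L_one : L 1 = (L 0)⁻¹ := L_flp 0
theorem L_three : L 3 = (L 2)⁻¹ := L_flp 2
theorem L_five : L 5 = (L 4)⁻¹ := L_flp 4

theorem word1 : ([0, 0, 2, 0, 0, 3] : List ℕ) ∈ words10 := by decide +kernel
theorem word6 : ([4, 4] : List ℕ) ∈ words10 := by decide +kernel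
theorem word7 : ([4, 0, 4, 0] : List ℕ) ∈ words10 := by decide +kernel

theorem L_z_sq : L 4 * L 4 = 1 := by simpa using L_rel word6

theorem commute_x : Commute c (L 0) := (Commute.refl (L 0)).mul_left (Commute.refl (L 0))

theorem commute_y : Commute c (L 2) := by
  have h := L_rel word1
  simp only [List.map_cons, List.map_nil, List.prod_cons, List.prod_nil, mul_one, L_three] at h
  have h2 : c * L 2 * c = L 2 := by
    rw [← mul_assoc, ← mul_assoc, ← mul_assoc, ← mul_assoc, mul_inv_eq_one] at h
    rw [c, ← mul_assoc]
    exact h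
  show c * L 2 = L 2 * c
  conv_rhs => rw [← h2]
  rw [mul_assoc (c * L 2), c_sq, mul_one]

theorem commute_z : Commute c (L 4) := by
  have h := L_rel word7
  simp only [List.map_cons, List.map_nil, List.prod_cons, List.prod_nil, mul_one] at h
  have hz : (L 4)⁻¹ = L 4 := inv_eq_of_mul_eq_one_right L_z_sq
  have h2 : L 4 * L 0 * L 4 = (L 0)⁻¹ := eq_inv_of_mul_eq_one_left (by rw [mul_assoc, mul_assoc]; exact h)
  have h3 : L 4 * c * L 4 = c := by
    calc L 4 * c * L 4 = L 4 * L 0 * (L 4 * L 4) * (L 0 * L 4) := by rw [L_z_sq, c]; group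
      _ = (L 4 * L 0 * L 4) * (L 4 * L 0 * L 4) := by group
      _ = c⁻¹ := by rw [h2, c, mul_inv_rev]
      _ = c := c_inv
  show c * L 4 = L 4 * c
  calc c * L 4 = L 4 * c * L 4 * L 4 := by rw [h3]
    _ = L 4 * c := by rw [mul_assoc, L_z_sq, mul_one]

theorem c_central : c ∈ Subgroup.center P0 := by
  have h : (⊤ : Subgroup P0) ≤ Subgroup.centralizer {c} := by
    rw [← L_closure, Subgroup.closure_le]
    rintro _ ⟨x, hx, rfl⟩
    refine Subgroup.mem_centralizer_singleton_iff.2 ?_
    simp only [List.mem_cons, List.not_mem_nil, or_false] at hx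
    rcases hx with rfl | rfl | rfl
    exacts [commute_x.eq.symm, commute_y.eq.symm, commute_z.eq.symm]
  exact Subgroup.mem_center_iff.2 fun g => Subgroup.mem_centralizer_singleton_iff.1 (h (Subgroup.mem_top g))

instance c_normal : (Subgroup.zpowers c).Normal where
  conj_mem n hn g := by
    have h : n ∈ Subgroup.center P0 := Subgroup.zpowers_le.2 c_central hn
    rwa [Subgroup.mem_center_iff.1 h g, mul_inv_cancel_right]

/-- The quotient by the central element. -/
abbrev Pbar : Type := P0 ⧸ Subgroup.zpowers c

/-- The projection. -/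
def proj : P0 →* Pbar := QuotientGroup.mk' _

theorem proj_c : proj c = 1 := (QuotientGroup.eq_one_iff _).2 (Subgroup.mem_zpowers c)

/-- Substituting the involution for its inverse. -/
def sub1 (a : ℕ) : ℕ := if a = 1 then 0 else a

/-- Pushing a letter with cancellation. -/
def push : List ℕ → ℕ → List ℕ
  | [], a => [a]
  | b :: o, a => if b = a ^^^ 1 ∨ (b = 0 ∧ a = 0) then o else a :: b :: o

/-- The normal form of a word when the first generator is an involution. -/
def norm (w : List ℕ) : List ℕ := ((w.map sub1).foldl push []).reverse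

theorem proj_sub1 (a : ℕ) : proj (L (sub1 a)) = proj (L a) := by
  unfold sub1
  split_ifs with h
  · subst h
    rw [L_one, map_inv]
    exact (inv_eq_of_mul_eq_one_right (by rw [← map_mul]; exact proj_c)).symm
  · rfl

theorem proj_push : ∀ (o : List ℕ) (a : ℕ),
    proj ((push o a).reverse.map L).prod = proj (o.reverse.map L).prod * proj (L a)
  | [], a => by simp [push]
  | b :: o, a => by
    rw [push]
    split_ifs with h
    · rcases h with rfl | ⟨rfl, rfl⟩
      · rw [List.reverse_cons, List.map_append, List.prod_append, List.map_singleton, List.prod_singleton,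
          ← flp_eq, L_flp, map_mul, map_inv, inv_mul_cancel_right]
      · rw [List.reverse_cons, List.map_append, List.prod_append, List.map_singleton, List.prod_singleton,
          map_mul, mul_assoc, ← map_mul proj (L 0), show L 0 * L 0 = c from rfl, proj_c, mul_one]
    · simp [List.prod_append, mul_assoc]

theorem proj_foldl : ∀ (w o : List ℕ),
    proj ((w.foldl push o).reverse.map L).prod = proj (o.reverse.map L).prod * proj (w.map L).prod
  | [], o => by simp
  | a :: w, o => by
    rw [List.foldl_cons, proj_foldl w, proj_push, List.map_cons, List.prod_cons, map_mul, mul_assoc]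

theorem proj_norm (w : List ℕ) : proj ((norm w).map L).prod = proj (w.map L).prod := by
  rw [norm, proj_foldl, List.reverse_nil, List.map_nil, List.prod_nil, map_one, one_mul]
  induction w with
  | nil => rfl
  | cons a w ih => simp only [List.map_cons, List.prod_cons, map_mul, proj_sub1, ih]

/-- Relators of the quotient that come from the presentation. -/
def baseWords : List (List ℕ) := [0, 0] :: words10.map norm

theorem proj_baseWord {w : List ℕ} (hw : w ∈ baseWords) : proj (w.map L).prod = 1 := by
  rcases List.mem_cons.1 hw with rfl | hw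
  · simpa [c] using proj_c
  · obtain ⟨u, hu, rfl⟩ := List.mem_map.1 hw
    rw [proj_norm, L_rel hu, map_one]

theorem c_rels : HNSub.C.cert.rels.all (fun w => decide (w ∈ baseWords)) = true := by decide +kernel

theorem c_subs : HNSub.C.cert.subs = [] := rfl

/-- Further relators of the quotient. -/
noncomputable def derived : List (List ℕ) := HNSub.C.closers.map Prod.fst

theorem proj_derived {w : List ℕ} (hw : w ∈ derived) : proj (w.map L).prod = 1 := by
  have hS := setup proj (C := HNSub.C.cert) fun w hw =>
    proj_baseWord (of_decide_eq_true (List.all_eq_true.1 c_rels w hw))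
  obtain ⟨e, he, rfl⟩ := List.mem_map.1 hw
  have h := Cert.closer_eq_one hS HNSub.C.base_ok HNSub.C.defs_ok HNSub.C.steps_ok c_subs
    HNSub.C.closers_ok e he
  rwa [prod_actLetter, inv_eq_one] at h

/-- Membership in either list of relators. -/
noncomputable def known (w : List ℕ) : Bool := baseWords.contains w || derived.contains w

theorem proj_known {w : List ℕ} (h : known w = true) : proj (w.map L).prod = 1 := by
  rw [known, Bool.or_eq_true, List.contains_iff_mem, List.contains_iff_mem] at h
  exact h.elim proj_baseWord proj_derived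

theorem x_rels : HNSub.X.cert.rels.all known = true := by decide +kernel

theorem p_rels : HNSub.P.cert.rels.all known = true := by decide +kernel

/-- The two generators of the small subgroup, with inverses. -/
def aWord : ℕ → List ℕ
  | 0 => [0, 2, 0, 3]
  | 1 => [2, 1, 3, 1]
  | 2 => [0, 2, 0, 2]
  | 3 => [3, 1, 3, 1]
  | _ => []

theorem a_rels : HNSub.A.cert.rels.all (fun w => known (norm (w.flatMap aWord))) = true := by decide +kernel

/-- The letters of the small subgroup. -/
noncomputable def aLetter (k : ℕ) : Pbar := (proj ((aWord k).map L).prod)⁻¹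

theorem aLetter_flp (k : ℕ) : aLetter (flp k) = (aLetter k)⁻¹ := by
  rw [flp_eq]
  unfold aLetter
  by_cases hk : k < 4
  · interval_cases k <;> simp [aWord, L_one, L_three, mul_assoc]
  · have h : ∀ j, 4 ≤ j → aWord j = [] := fun j hj => by
      match j with
      | 0 | 1 | 2 | 3 => omega
      | _ + 4 => rfl
    have h' : 4 ≤ k ^^^ 1 := by
      have : (k ^^^ 1) / 2 = k / 2 := by
        rw [← Nat.shiftRight_one, Nat.shiftRight_xor_distrib, Nat.shiftRight_one]; simp
      omega
    simp [h k (by omega), h _ h']

theorem prod_aLetter : ∀ w : List ℕ, (w.reverse.map aLetter).prod = (proj ((w.flatMap aWord).map L).prod)⁻¹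
  | [] => by simp
  | k :: w => by
    rw [List.reverse_cons, List.map_append, List.prod_append, prod_aLetter w, List.map_singleton,
      List.prod_singleton, List.flatMap_cons, List.map_append, List.prod_append, map_mul, mul_inv_rev]
    rfl

theorem a_setup : HNSub.A.cert.Setup aLetter where
  inv := aLetter_flp
  eq := by simp [aLetter, CfsgLib.ThreeTrans.CosetIndex.eqLetter, aWord]
  rel w hw := by
    rw [prod_aLetter, inv_eq_one, ← proj_norm]
    exact proj_known (List.all_eq_true.1 a_rels w hw)

/-- The small subgroup. -/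
noncomputable def subA : Subgroup Pbar := Subgroup.closure {g | ∃ x ∈ HNSub.A.cert.kl, g = aLetter x}

theorem card_subA : Finite subA ∧ Nat.card subA ≤ 168 := by
  have h := Cert.card_le a_setup HNSub.A.valid ⊥ subA (fun w hw => by
    rw [show HNSub.A.cert.subs = [] from rfl] at hw; simp at hw) le_rfl
  simpa [show HNSub.A.cert.n = 168 from rfl] using h

/-- The subgroup of the first two generators. -/
noncomputable def subX : Subgroup Pbar := Subgroup.closure {g | ∃ x ∈ HNSub.X.cert.kl, g = actLetter proj x}

theorem card_subX : Finite subX ∧ Nat.card subX ≤ 4500 * 168 := by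
  obtain ⟨_, hA⟩ := card_subA
  have h := Cert.card_le (setup proj fun w hw => proj_known (List.all_eq_true.1 x_rels w hw)) HNSub.X.valid subA
    subX (fun w hw => by
      rw [prod_actLetter]
      rw [show HNSub.X.cert.subs = [aWord 0, aWord 2] from rfl] at hw
      simp only [List.mem_cons, List.not_mem_nil, or_false] at hw
      rcases hw with rfl | rfl
      · exact Subgroup.subset_closure ⟨0, by decide +kernel, rfl⟩
      · exact Subgroup.subset_closure ⟨2, by decide +kernel, rfl⟩) le_rfl
  exact ⟨h.1, h.2.trans (by rw [show HNSub.X.cert.n = 4500 from rfl]; exact Nat.mul_le_mul_left _ hA)⟩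

theorem card_Pbar : Finite Pbar ∧ Nat.card Pbar ≤ 266112000 := by
  obtain ⟨_, hX⟩ := card_subX
  have htop : (⊤ : Subgroup Pbar) ≤ Subgroup.closure {g | ∃ x ∈ HNSub.P.cert.kl, g = actLetter proj x} := by
    have hsurj : Function.Surjective proj := QuotientGroup.mk'_surjective _
    rw [show HNSub.P.cert.kl = [0, 2, 4] from rfl, ← Subgroup.map_top_of_surjective proj hsurj, ← L_closure,
      MonoidHom.map_closure, Subgroup.closure_le]
    rintro _ ⟨_, ⟨x, hx, rfl⟩, rfl⟩
    have := Subgroup.subset_closure (G := Pbar) (k := {g | ∃ x ∈ ([0, 2, 4] : List ℕ), g = actLetter proj x})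
      ⟨x, hx, rfl⟩
    simpa [actLetter] using inv_mem this
  have h := Cert.card_le (setup proj fun w hw => proj_known (List.all_eq_true.1 p_rels w hw)) HNSub.P.valid subX ⊤
    (fun w hw => by
      rw [prod_actLetter]
      rw [show HNSub.P.cert.subs = [[0], [2]] from rfl] at hw
      simp only [List.mem_cons, List.not_mem_nil, or_false] at hw
      rcases hw with rfl | rfl
      · exact Subgroup.subset_closure ⟨0, by decide +kernel, by simp [actLetter]⟩
      · exact Subgroup.subset_closure ⟨2, by decide +kernel, by simp [actLetter]⟩) htop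
  have e : Nat.card (⊤ : Subgroup Pbar) = Nat.card Pbar := Nat.card_congr Subgroup.topEquiv.toEquiv
  rw [e, show HNSub.P.cert.n = 352 from rfl] at h
  obtain ⟨hf, hle⟩ := h
  exact ⟨Finite.of_equiv _ Subgroup.topEquiv.toEquiv, hle.trans ((Nat.mul_le_mul_left _ hX).trans (by norm_num))⟩

theorem card_P0 : Finite P0 ∧ Nat.card P0 ≤ 532224000 := by
  obtain ⟨_, hle⟩ := card_Pbar
  have hfin : (Subgroup.zpowers c : Set P0).Finite :=
    ((Set.finite_singleton c).insert (1 : P0)).subset fun g hg => by
      obtain ⟨n, rfl⟩ := Subgroup.mem_zpowers_iff.1 hg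
      rcases Int.even_or_odd n with ⟨m, rfl⟩ | ⟨m, rfl⟩
      · left
        rw [← two_mul, zpow_mul, show c ^ (2 : ℤ) = 1 by rw [zpow_two, c_sq], one_zpow]
      · right
        rw [zpow_add_one, zpow_mul, show c ^ (2 : ℤ) = 1 by rw [zpow_two, c_sq], one_zpow, one_mul]
        rfl
  have : Finite ↥(Subgroup.zpowers c) := hfin.to_subtype
  have hc : Nat.card ↥(Subgroup.zpowers c) ≤ 2 := by
    rw [Nat.card_zpowers]
    exact orderOf_le_of_pow_eq_one two_pos (by rw [pow_two, c_sq])
  have hfinP : Finite P0 := by
    have h2 : (Subgroup.zpowers c).index ≠ 0 := by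
      rw [Subgroup.index_eq_card]; exact Nat.card_pos.ne'
    exact Nat.finite_of_card_ne_zero (by
      rw [← (Subgroup.zpowers c).index_mul_card]; exact Nat.mul_ne_zero h2 Nat.card_pos.ne')
  refine ⟨hfinP, ?_⟩
  rw [← (Subgroup.zpowers c).index_mul_card, Subgroup.index_eq_card]
  exact (Nat.mul_le_mul hle hc).trans (by norm_num)

end CfsgLib.Sporadic.HNGroup
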