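import Cfsg.Agent.Lib.Sporadic.HNGroup.Bound

/-!
# The derived subgroup is perfect of index at most two (owner: helper25)
-/

set_option autoImplicit false
set_option maxRecDepth 20000

namespace CfsgLib.Sporadic.HNGroup

open scoped commutatorElement

theorem word0 : ([2, 2, 2, 2, 2, 2] : List ℕ) ∈ words10 := by decide +kernel
theorem word3 : ([1, 2, 2, 0, 2, 2, 2, 1, 2, 2, 0, 2, 2, 2, 1, 2, 2, 0, 2, 2, 2] : List ℕ) ∈ words10 := by
  decide +kernel
theorem word4 : ([0, 2, 0, 2, 0, 2, 0, 2, 0, 2, 0, 2, 0, 2, 0, 2] : List ℕ) ∈ words10 := by decide +kernel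
theorem word9 : ([4, 3, 1, 3, 1, 3, 3, 3, 4, 2, 2, 2, 0, 2, 0, 2, 0, 3, 1, 3, 1, 3, 3, 3, 4, 2, 2, 2, 0, 2, 0, 2, 0,
    3, 1, 3, 1, 3, 3, 3, 4, 2, 2, 2, 0, 2, 0, 2, 0] : List ℕ) ∈ words10 := by decide +kernel

/-- Where the two even generators commute they are trivial. -/
theorem eq_one_of_commute {M : Type*} [Group M] (f : P0 →* M) (hc : Commute (f (L 0)) (f (L 2))) :
    f (L 0) = 1 ∧ f (L 2) = 1 := by
  set X := f (L 0) with hX
  set Y := f (L 2) with hY
  set Z := f (L 4) with hZ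
  have hX' : f (L 1) = X⁻¹ := by rw [L_one, map_inv]
  have hY' : f (L 3) = Y⁻¹ := by rw [L_three, map_inv]
  have rel : ∀ {w : List ℕ}, w ∈ words10 → (w.map fun k => f (L k)).prod = 1 := fun {w} hw => by
    have h := congrArg f (L_rel hw)
    rwa [map_list_prod, List.map_map, map_one] at h
  have hY6 : Y ^ 6 = 1 := by
    have h := rel word0
    simpa [← hY, pow_succ, mul_assoc] using h
  have h2 : X⁻¹ * (Y * Y) * X = Y * Y := by
    rw [mul_assoc, (hc.mul_right hc).symm.eq, ← mul_assoc, inv_mul_cancel, one_mul]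
  have hY15 : Y ^ 15 = 1 := by
    have h := rel word3
    simp only [List.map_cons, List.map_nil, List.prod_cons, List.prod_nil, mul_one, hX', ← hX, ← hY] at h
    have e : X⁻¹ * (Y * Y) * X * (Y * Y * Y) = Y ^ 5 := by
      rw [h2, show (5 : ℕ) = 1 + 1 + 1 + 1 + 1 from rfl]
      simp only [pow_add, pow_one, mul_assoc]
    rw [show (15 : ℕ) = 5 + 5 + 5 from rfl, pow_add, pow_add, ← e]
    simpa [mul_assoc] using h
  have hX4 : X ^ 4 = 1 := by
    have h := congrArg f L_x_four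
    simpa [← hX, pow_succ, mul_assoc] using h
  have hY8 : Y ^ 8 = 1 := by
    have h := rel word4
    have e : (X * Y) ^ 8 = 1 := by simpa [← hX, ← hY, pow_succ, mul_assoc] using h
    rwa [hc.mul_pow, show X ^ 8 = (X ^ 4) ^ 2 by rw [← pow_mul], hX4, one_pow, one_mul] at e
  have hY1 : Y = 1 := by
    have e : Y ^ 16 = Y ^ 15 * Y := pow_succ Y 15
    rw [hY15, one_mul, show (16 : ℕ) = 8 * 2 from rfl, pow_mul, hY8, one_pow] at e
    exact e.symm
  refine ⟨?_, hY1⟩
  have hZ2 : Z * Z = 1 := by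
    have h := rel word6
    simpa [← hZ] using h
  have hZXZX : Z * X * (Z * X) = 1 := by
    have h := rel word7
    simpa [← hX, ← hZ, mul_assoc] using h
  have h := rel word9
  simp only [List.map_cons, List.map_nil, List.prod_cons, List.prod_nil, mul_one, one_mul, hX', hY', ← hX, ← hY,
    ← hZ, hY1, inv_one] at h
  have hzx : Z * X = X⁻¹ * Z := by
    calc Z * X = Z * X * Z * Z := by rw [mul_assoc (Z * X), hZ2, mul_one]
      _ = X⁻¹ * (X * (Z * X * Z)) * Z := by group
      _ = X⁻¹ * Z := by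
        rw [show X * (Z * X * Z) = Z⁻¹ * (Z * X * (Z * X)) * Z by group, hZXZX, mul_one, inv_mul_cancel, mul_one]
  have hA : X⁻¹ * X⁻¹ * Z * (X * X * X) = X⁻¹ * Z := by
    calc X⁻¹ * X⁻¹ * Z * (X * X * X) = X⁻¹ * X⁻¹ * (Z * X) * X * X := by group
      _ = X⁻¹ * X⁻¹ * X⁻¹ * (Z * X) * X := by
        conv_lhs => rw [hzx]
        group
      _ = X⁻¹ * X⁻¹ * X⁻¹ * X⁻¹ * (Z * X) := by
        conv_lhs => rw [hzx]
        group
      _ = X⁻¹ * X⁻¹ * X⁻¹ * X⁻¹ * X⁻¹ * Z := by
        conv_lhs => rw [hzx]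
        group
      _ = (X ^ 4)⁻¹ * X⁻¹ * Z := by group
      _ = X⁻¹ * Z := by rw [hX4, inv_one, one_mul]
  have e : Z * ((X⁻¹ * Z) * (X⁻¹ * Z) * (X⁻¹ * Z)) = 1 := by
    rw [← hA]
    simpa [mul_assoc] using h
  have e2 : (X⁻¹ * Z) * (X⁻¹ * Z) = 1 := by
    calc (X⁻¹ * Z) * (X⁻¹ * Z) = X⁻¹ * (Z * X⁻¹) * Z := by group
      _ = X⁻¹ * (X * Z) * Z := by
        rw [show Z * X⁻¹ = X * Z from ?_]
        calc Z * X⁻¹ = X * (X⁻¹ * Z) * X⁻¹ := by group
          _ = X * (Z * X) * X⁻¹ := by rw [hzx]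
          _ = X * Z := by group
      _ = 1 := by rw [← mul_assoc X⁻¹, inv_mul_cancel, one_mul, hZ2]
  rw [e2, one_mul, ← hzx, ← mul_assoc, hZ2, one_mul] at e
  exact e

/-- The derived subgroup. -/
abbrev Q : Subgroup P0 := commutator P0

theorem closure_three (f : Subgroup P0) (hf : f.Normal) (h0 : L 0 ∈ f) (h2 : L 2 ∈ f) :
    ∀ g : P0, g ∈ f ∨ g * L 4 ∈ f := by
  have hz : ∀ n ∈ f, L 4 * n * L 4 ∈ f := fun n hn => by
    have := hf.conj_mem n hn (L 4)
    rwa [show (L 4)⁻¹ = L 4 from inv_eq_of_mul_eq_one_right L_z_sq] at this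
  let T : Subgroup P0 :=
    { carrier := {g | g ∈ f ∨ g * L 4 ∈ f}
      one_mem' := Or.inl (one_mem f)
      mul_mem' := by
        rintro a b (ha | ha) (hb | hb)
        · exact Or.inl (mul_mem ha hb)
        · exact Or.inr (by rw [mul_assoc]; exact mul_mem ha hb)
        · refine Or.inr ?_
          have : a * b * L 4 = a * L 4 * (L 4 * b * L 4) := by
            calc a * b * L 4 = a * (L 4 * L 4) * b * L 4 := by rw [L_z_sq, mul_one]
              _ = _ := by group
          rw [this]; exact mul_mem ha (hz b hb)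
        · refine Or.inl ?_
          have : a * b = a * L 4 * (L 4 * (b * L 4) * L 4) := by
            calc a * b = a * (L 4 * L 4) * b * (L 4 * L 4) := by rw [L_z_sq, mul_one, mul_one]
              _ = _ := by group
          rw [this]; exact mul_mem ha (hz _ hb)
      inv_mem' := by
        rintro a (ha | ha)
        · exact Or.inl (inv_mem ha)
        · refine Or.inr ?_
          have : a⁻¹ * L 4 = L 4 * (a * L 4)⁻¹ * L 4 := by
            rw [mul_inv_rev, ← mul_assoc, mul_inv_cancel, one_mul]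
          rw [this]; exact hz _ (inv_mem ha) }
  intro g
  have hle : (⊤ : Subgroup P0) ≤ T := by
    rw [← L_closure, Subgroup.closure_le]
    rintro _ ⟨x, hx, rfl⟩
    simp only [List.mem_cons, List.not_mem_nil, or_false] at hx
    rcases hx with rfl | rfl | rfl
    exacts [Or.inl h0, Or.inl h2, Or.inr (by rw [L_z_sq]; exact one_mem f)]
  exact hle (Subgroup.mem_top g)

theorem L_mem_Q : L 0 ∈ Q ∧ L 2 ∈ Q := by
  have h := eq_one_of_commute (QuotientGroup.mk' Q) (Abelianization.commute_of (L 0) (L 2))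
  exact ⟨(QuotientGroup.eq_one_iff _).1 h.1, (QuotientGroup.eq_one_iff _).1 h.2⟩
where
  Abelianization.commute_of (a b : P0) : Commute (QuotientGroup.mk' Q a) (QuotientGroup.mk' Q b) := by
    show _ * _ = _ * _
    rw [← map_mul, ← map_mul]
    refine (QuotientGroup.eq).2 ?_
    rw [show (a * b)⁻¹ * (b * a) = ⁅b⁻¹, a⁻¹⁆ by rw [commutatorElement_def]; group]
    exact Subgroup.commutator_mem_commutator (Subgroup.mem_top _) (Subgroup.mem_top _)

theorem c_mem_Q : c ∈ Q := mul_mem L_mem_Q.1 L_mem_Q.1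

theorem Q_cases (g : P0) : g ∈ Q ∨ g * L 4 ∈ Q := closure_three Q inferInstance L_mem_Q.1 L_mem_Q.2 g

theorem Q_perfect : ⁅Q, Q⁆ = Q := by
  refine le_antisymm (Subgroup.commutator_le_self Q) ?_
  set D := ⁅Q, Q⁆ with hD
  have : D.Normal := Subgroup.commutator_normal Q Q
  have h := eq_one_of_commute (QuotientGroup.mk' D) (by
    show _ * _ = _ * _
    rw [← map_mul, ← map_mul]
    refine (QuotientGroup.eq).2 ?_
    rw [show (L 0 * L 2)⁻¹ * (L 2 * L 0) = ⁅(L 2)⁻¹, (L 0)⁻¹⁆ by rw [commutatorElement_def]; group]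
    exact Subgroup.commutator_mem_commutator (inv_mem L_mem_Q.2) (inv_mem L_mem_Q.1))
  have hc := closure_three D ‹_› ((QuotientGroup.eq_one_iff _).1 h.1) ((QuotientGroup.eq_one_iff _).1 h.2)
  rw [Q, commutator_def, Subgroup.commutator_le]
  intro a _ b _
  have hq : ∀ g : P0, (QuotientGroup.mk' D g) = 1 ∨ QuotientGroup.mk' D g = QuotientGroup.mk' D (L 4) := by
    intro g
    rcases hc g with hg | hg
    · exact Or.inl ((QuotientGroup.eq_one_iff _).2 hg)
    · refine Or.inr ?_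
      have e : QuotientGroup.mk' D g * QuotientGroup.mk' D (L 4) = 1 := by
        rw [← map_mul]; exact (QuotientGroup.eq_one_iff _).2 hg
      rw [eq_inv_of_mul_eq_one_left e, ← map_inv, inv_eq_of_mul_eq_one_right L_z_sq]
  refine (QuotientGroup.eq_one_iff _).1 ?_
  show QuotientGroup.mk' D ⁅a, b⁆ = 1
  rw [map_commutatorElement]
  rcases hq a with ha | ha <;> rcases hq b with hb | hb <;> rw [ha, hb] <;>
    simp [commutatorElement_def]

end CfsgLib.Sporadic.HNGroup
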