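import Cfsg.Agent.Lib.Sporadic.HNGroup.Bound
import Cfsg.Agent.Lib.Sporadic.HNSub.Perms
import Cfsg.Agent.Lib.Schur.PermChain

/-!
# The action of the presented group on a hundred points (owner: helper25)
-/

set_option autoImplicit false
set_option maxRecDepth 20000
set_option exponentiation.threshold 1100

namespace CfsgLib.Sporadic.HNGroup

open CfsgLib.Schur.Cert (pgetN)

/-- The image of a point under a letter. -/
noncomputable def img (k x : ℕ) : ℕ := pgetN (HNSub.permData.getD k 0) x

theorem perm_check : ∀ k < 6, ∀ x < 100, img k x < 100 ∧ img (k ^^^ 1) (img k x) = x := by decide +kernel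

theorem xor_one_lt_six {k : ℕ} (h : k < 6) : k ^^^ 1 < 6 := by interval_cases k <;> decide

/-- A letter as a permutation. -/
noncomputable def perm (k : ℕ) : Equiv.Perm (Fin 100) :=
  if h : k < 6 then
    { toFun := fun i => ⟨img k i, (perm_check k h i i.isLt).1⟩
      invFun := fun i => ⟨img (k ^^^ 1) i, (perm_check _ (xor_one_lt_six h) i i.isLt).1⟩
      left_inv := fun i => Fin.ext (perm_check k h i i.isLt).2
      right_inv := fun i => Fin.ext (by
        have := (perm_check _ (xor_one_lt_six h) i i.isLt).2
        rwa [Nat.xor_assoc, Nat.xor_self, Nat.xor_zero] at this) }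
  else 1

theorem perm_apply {k : ℕ} (h : k < 6) (i : Fin 100) : ((perm k i : Fin 100) : ℕ) = img k i := by
  simp [perm, h]

theorem perm_inv {k : ℕ} (h : k < 6) : perm (k ^^^ 1) = (perm k)⁻¹ := by
  refine Equiv.ext fun i => Fin.ext ?_
  rw [perm_apply (xor_one_lt_six h), perm, dif_pos h]
  rfl

/-- The image of a point under a word. -/
noncomputable def wordImg (w : List ℕ) (x : ℕ) : ℕ := w.foldr img x

theorem prod_perm_apply : ∀ {w : List ℕ}, (∀ k ∈ w, k < 6) → ∀ i : Fin 100,
    (((w.map perm).prod i : Fin 100) : ℕ) = wordImg w i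
  | [], _, i => rfl
  | k :: w, h, i => by
    rw [List.map_cons, List.prod_cons, Equiv.Perm.mul_apply, perm_apply (h k List.mem_cons_self),
      prod_perm_apply (fun j hj => h j (List.mem_cons_of_mem _ hj))]
    rfl

theorem rel_check : (words10.all fun w => (w.all fun k => Nat.blt k 6) &&
    forallLt 100 fun x => Nat.beq (wordImg w x) x) = true := by decide +kernel

/-- The generators as permutations. -/
noncomputable def permGen (i : Fin 3) : Equiv.Perm (Fin 100) := perm (2 * i.val)

theorem lift_fr {k : ℕ} (h : k < 6) : FreeGroup.lift permGen (fr k) = perm k := by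
  interval_cases k <;> simp only [fr] <;>
    norm_num [FreeGroup.lift_apply_of, permGen] <;> exact (perm_inv (by norm_num)).symm

/-- The action. -/
noncomputable def pi : P0 →* Equiv.Perm (Fin 100) :=
  PresentedGroup.toGroup (f := permGen) (by
    rintro r ⟨w, hw, rfl⟩
    have h := List.all_eq_true.1 rel_check w hw
    rw [Bool.and_eq_true, List.all_eq_true] at h
    have hlt : ∀ k ∈ w, k < 6 := fun k hk => by simpa using h.1 k hk
    rw [map_list_prod, List.map_map,
      List.map_congr_left (f := FreeGroup.lift permGen ∘ fr) fun k hk => lift_fr (hlt k hk)]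
    exact Equiv.ext fun i => Fin.ext (by
      rw [prod_perm_apply hlt]; exact Nat.eq_of_beq_eq_true (forallLt_elim h.2 i.isLt)))

theorem pi_L {k : ℕ} (h : k < 6) : pi (L k) = perm k := lift_fr h

theorem pi_prod {w : List ℕ} (h : ∀ k ∈ w, k < 6) (i : Fin 100) :
    ((pi (w.map L).prod i : Fin 100) : ℕ) = wordImg w i := by
  rw [map_list_prod, List.map_map, List.map_congr_left (f := pi ∘ L) fun k hk => pi_L (h k hk)]
  exact prod_perm_apply h i

theorem pi_c : pi c = 1 := by
  have h : forallLt 100 (fun x => Nat.beq (wordImg [0, 0] x) x) = true := by decide +kernel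
  refine Equiv.ext fun i => Fin.ext ?_
  rw [show c = (([0, 0] : List ℕ).map L).prod by simp [c], pi_prod (by simp)]
  exact Nat.eq_of_beq_eq_true (forallLt_elim h i.isLt)

theorem z_pairs : (HNSub.zPairs.flatMap fun e => [e.1, e.2]).Nodup ∧ HNSub.zPairs.length = 35 ∧
    ∀ i : Fin 100, ((HNSub.zPairs.map fun e => Equiv.swap e.1 e.2).prod i : ℕ) = img 4 i := by decide +kernel

theorem sign_pi_z : Equiv.Perm.sign (pi (L 4)) = -1 := by
  obtain ⟨hnd, hlen, himg⟩ := z_pairs
  have hswap : ∀ g ∈ HNSub.zPairs.map (fun e => Equiv.swap e.1 e.2), g.IsSwap := by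
    intro g hg
    obtain ⟨e, he, rfl⟩ := List.mem_map.1 hg
    refine ⟨e.1, e.2, fun h => ?_, rfl⟩
    have := List.nodup_flatMap.1 hnd |>.1 e he
    simp [h] at this
  have e : pi (L 4) = (HNSub.zPairs.map fun e => Equiv.swap e.1 e.2).prod :=
    Equiv.ext fun i => Fin.ext (by rw [pi_L (by norm_num), perm_apply (by norm_num), himg])
  rw [e, Equiv.Perm.sign_prod_list_swap hswap, List.length_map, hlen]
  decide

theorem perm_small : (List.range 6).all (fun k => Nat.blt (HNSub.permData.getD k 0) (2 ^ 1000)) = true := by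
  decide +kernel

theorem img_lt {k : ℕ} (hk : k < 6) (x : ℕ) : img k x < 100 := by
  rcases Nat.lt_or_ge x 100 with hx | hx
  · exact (perm_check k hk x hx).1
  · have h := List.all_eq_true.1 perm_small k (List.mem_range.2 hk)
    rw [Nat.blt_eq] at h
    have h0 : Nat.shiftRight (HNSub.permData.getD k 0) (Nat.mul 10 x) = 0 := by
      show HNSub.permData.getD k 0 >>> (10 * x) = 0
      rw [Nat.shiftRight_eq_div_pow]
      exact Nat.div_eq_of_lt (h.trans_le (Nat.pow_le_pow_right two_pos (by omega)))
    show Nat.land (Nat.shiftRight _ (Nat.mul 10 x)) 1023 < 100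
    rw [h0]
    decide

theorem reach_check : (HNSub.reachSteps.all fun e => Nat.blt e.2 6) = true ∧
    (forallLt 100 fun x => (0 :: HNSub.reachSteps.map fun e => img e.2 e.1).contains x) = true ∧
    (forallLt HNSub.reachSteps.length fun j =>
      ((0 :: HNSub.reachSteps.map fun e => img e.2 e.1).take (j + 1)).contains (HNSub.reachSteps.getD j (0, 0)).1) = true := by
  decide +kernel

/-- The image is transitive. -/
theorem pi_transitive (i : Fin 100) : ∃ g : P0, pi g 0 = i := by
  obtain ⟨hlt, hall, hord⟩ := reach_check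
  set pts := 0 :: HNSub.reachSteps.map fun e => img e.2 e.1 with hpts
  have key : ∀ m ≤ HNSub.reachSteps.length + 1, ∀ x ∈ pts.take m, ∀ hx : x < 100, ∃ g : P0, pi g 0 = ⟨x, hx⟩ := by
    intro m
    induction m with
    | zero => simp
    | succ m ih =>
      intro hm x hx hx'
      rcases List.mem_take_iff_getElem.1 hx with ⟨j, hj, rfl⟩
      rcases Nat.lt_or_ge j m with h | h
      · exact ih (by omega) _ (List.mem_take_iff_getElem.2 ⟨j, by omega, rfl⟩) hx'
      have hjm : j = m := by omega
      subst hjm
      match j with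
      | 0 => exact ⟨1, by simp [hpts]⟩
      | j + 1 =>
        have hjl : j < HNSub.reachSteps.length := by omega
        have hp := forallLt_elim hord hjl
        rw [List.contains_iff_mem, List.getD_eq_getElem _ _ hjl] at hp
        have he := List.getElem_mem hjl
        have hk : (HNSub.reachSteps[j]).2 < 6 := by simpa using List.all_eq_true.1 hlt _ he
        have hsrc : (HNSub.reachSteps[j]).1 < 100 := by
          rcases List.mem_cons.1 (List.mem_of_mem_take hp) with h | h
          · omega
          · obtain ⟨e, he', e'⟩ := List.mem_map.1 h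
            have hk' : e.2 < 6 := by simpa using List.all_eq_true.1 hlt e he'
            rw [← e']
            exact img_lt hk' e.1
        obtain ⟨g, hg⟩ := ih (by omega) _ hp hsrc
        refine ⟨L (HNSub.reachSteps[j]).2 * g, Fin.ext ?_⟩
        rw [map_mul, Equiv.Perm.mul_apply, hg, pi_L hk, perm_apply hk]
        simp [hpts]
  have hmem : (i : ℕ) ∈ pts := List.contains_iff_mem.1 (forallLt_elim hall i.isLt)
  obtain ⟨g, hg⟩ := key _ le_rfl i (by rw [List.take_of_length_le (by simp [hpts])]; exact hmem) i.isLt
  exact ⟨g, hg⟩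

end CfsgLib.Sporadic.HNGroup
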