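import Cfsg.Agent.Lib.Sporadic.HNGroup.ToHN
import Cfsg.Agent.Lib.Sporadic.HNGroup.Perm
import Cfsg.Agent.Lib.Sporadic.HsMultiplier

/-!
# The derived subgroup is the double cover of the Higman–Sims group (owner: helper25)
-/

set_option autoImplicit false
set_option maxRecDepth 20000

namespace CfsgLib.Sporadic.HNGroup

open Cfsg CfsgLib.ThreeTrans.Leech CfsgLib.Sporadic CfsgLib.Sporadic.Lattice CfsgLib.Sporadic.Conway
open CfsgLib.Sporadic.HsMult (num act act_injective words_check chain_check)
open CfsgLib.Schur.Cert (pgetN RepN wval lett)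
open scoped commutatorElement

/-- The stabiliser that is the simple group. -/
abbrev HS0 : Type := ↥(fixGroup [fiveElt, hsElt])

instance : Finite HS0 := Nat.finite_of_card_ne_zero (by rw [card_fix_hs]; norm_num)

theorem exists_gen {j : ℕ} (hj : j < 2) : ∃ g : HS0, RepN (act g) ((chainPerm MultHs.chain).getD j 0) :=
  num.exists_repN rfl (forallLt_elim words_check.1 hj)

/-- The two generators. -/
noncomputable def gen (j : ℕ) : HS0 := if h : j < 2 then (exists_gen h).choose else 1

theorem gen_rep {j : ℕ} (hj : j < 2) : RepN (act (gen j)) ((chainPerm MultHs.chain).getD j 0) := by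
  simp only [gen, dif_pos hj]
  exact (exists_gen hj).choose_spec

theorem gen_generates : Subgroup.closure (gen '' Set.Iio 2) = ⊤ := by
  obtain ⟨hlen, -, hsize, -⟩ := chain_check
  set top : List CfsgLib.Schur.Cert.Word := (List.range 2).map fun j => [(j, true)] with htop
  have htl : top.length = 2 := by simp [htop]
  have hb : ∀ j < 2, wval gen (top.getD j []) = gen j := fun j hj => by
    rw [htop, List.getD_eq_getElem _ _ (by simpa using hj)]
    simp [wval, lett]
  obtain ⟨-, hs⟩ := CfsgLib.Schur.Cert.chain_permsN act act_injective gen MultHs.chain top MultHs.perms_check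
    (by rw [hlen, htl]) fun j hj => by
      rw [htl] at hj
      rw [hb j hj]
      exact gen_rep hj
  refine Subgroup.eq_top_of_le_card _ ?_
  rw [card_fix_hs, ← hsize]
  have : (fun j => wval gen (top.getD j [])) '' Set.Iio top.length = gen '' Set.Iio 2 := by
    rw [htl]; exact Set.image_congr fun j hj => hb j hj
  rwa [this] at hs

theorem genWord_check : forallLt 2 (fun j => ((HNSub.genWordsHs.getD j []).all fun k => Nat.blt k 6) &&
    forallLt 100 fun x => Nat.beq (wordImg (HNSub.genWordsHs.getD j []) x)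
      (pgetN ((chainPerm MultHs.chain).getD j 0) x)) = true := by decide +kernel

theorem range_act_le : act.range ≤ pi.range := by
  rw [MonoidHom.range_eq_map, ← gen_generates, MonoidHom.map_closure, Subgroup.closure_le]
  rintro _ ⟨_, ⟨j, hj, rfl⟩, rfl⟩
  have hj' : j < 2 := hj
  have h := forallLt_elim genWord_check hj'
  rw [Bool.and_eq_true, List.all_eq_true] at h
  have hlt : ∀ k ∈ HNSub.genWordsHs.getD j [], k < 6 := fun k hk => by simpa using h.1 k hk
  refine ⟨((HNSub.genWordsHs.getD j []).map L).prod, Equiv.ext fun i => Fin.ext ?_⟩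
  rw [pi_prod hlt, Nat.eq_of_beq_eq_true (forallLt_elim h.2 i.isLt)]
  exact gen_rep hj' i

theorem card_range_act : Nat.card act.range = 44352000 := by
  rw [← Nat.card_congr (MonoidHom.ofInjective act_injective).toEquiv, card_fix_hs]

instance simpleRange : IsSimpleGroup act.range := by
  have := simple_hs
  have : Nontrivial act.range := Finite.one_lt_card_iff_nontrivial.1 (by rw [card_range_act]; norm_num)
  exact IsSimpleGroup.isSimpleGroup_of_surjective (MonoidHom.ofInjective act_injective).toMonoidHom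
    (MonoidHom.ofInjective act_injective).surjective

instance finP0 : Finite P0 := card_P0.1

theorem sign_Q {q : P0} (hq : q ∈ Q) : Equiv.Perm.sign (pi q) = 1 := by
  have h := Abelianization.commutator_subset_ker (Equiv.Perm.sign.comp pi) hq
  rw [MonoidHom.mem_ker] at h
  exact h

theorem z_not_mem_Q : L 4 ∉ Q := fun h => by
  have := sign_Q h
  rw [sign_pi_z] at this
  exact absurd this (by decide)

theorem two_mul_card_Q : 2 * Nat.card Q ≤ Nat.card P0 := by
  have h2 : 1 < Q.index := Subgroup.one_lt_index_of_ne_top fun h => z_not_mem_Q (h ▸ Subgroup.mem_top _)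
  rw [← Q.index_mul_card]
  exact Nat.mul_le_mul_right _ h2

theorem sq_mem_Q (g : P0) : g * g ∈ Q := by
  rcases Q_cases g with h | h
  · exact mul_mem h h
  · have e : g * g = g * L 4 * ((L 4) * (g * L 4) * (L 4)) := by
      calc g * g = g * (L 4 * L 4) * g * (L 4 * L 4) := by rw [L_z_sq, mul_one, mul_one]
        _ = _ := by group
    rw [e]
    refine mul_mem h ?_
    have := (inferInstance : Q.Normal).conj_mem _ h (L 4)
    rwa [show (L 4)⁻¹ = L 4 from inv_eq_of_mul_eq_one_right L_z_sq] at this

/-- The image of the derived subgroup. -/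
noncomputable def RQ : Subgroup (Equiv.Perm (Fin 100)) := Q.map pi

theorem act_le_RQ : act.range ≤ RQ := by
  have hnorm : (RQ.subgroupOf act.range).Normal := by
    refine ⟨fun n hn g => ?_⟩
    obtain ⟨a, ha⟩ := range_act_le g.2
    obtain ⟨q, hq, hq'⟩ := (show (n : Equiv.Perm (Fin 100)) ∈ RQ from hn)
    refine ⟨a * q * a⁻¹, (inferInstance : Q.Normal).conj_mem q hq a, ?_⟩
    rw [map_mul, map_mul, map_inv, ha, hq']
    rfl
  rcases hnorm.eq_bot_or_eq_top with h | h
  · exfalso
    have hsq : ∀ r : act.range, r * r = 1 := by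
      intro r
      obtain ⟨a, ha⟩ := range_act_le r.2
      have : r * r ∈ RQ.subgroupOf act.range := ⟨a * a, sq_mem_Q a, by rw [map_mul, ha]; rfl⟩
      rwa [h, Subgroup.mem_bot] at this
    let _ : CommGroup act.range :=
      { (inferInstance : Group act.range) with
        mul_comm := fun a b => by
          have ea : a⁻¹ = a := inv_eq_of_mul_eq_one_right (hsq a)
          have eb : b⁻¹ = b := inv_eq_of_mul_eq_one_right (hsq b)
          have eab : (a * b)⁻¹ = a * b := inv_eq_of_mul_eq_one_right (hsq _)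
          rw [← eab, mul_inv_rev, ea, eb] }
    have hp := IsSimpleGroup.prime_card (α := act.range)
    rw [card_range_act] at hp
    norm_num at hp
  · exact Subgroup.subgroupOf_eq_top.1 h

/-- The action restricted to the derived subgroup. -/
noncomputable def tauQ : ↥Q →* Equiv.Perm (Fin 100) := pi.comp Q.subtype

theorem range_tauQ : tauQ.range = RQ := by
  rw [tauQ, MonoidHom.range_comp, Subgroup.range_subtype]; rfl

theorem card_ker_mul : Nat.card tauQ.ker * Nat.card RQ = Nat.card Q := by
  rw [← range_tauQ, ← Subgroup.index_ker tauQ, Subgroup.card_mul_index]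

theorem two_le_ker : 2 ≤ Nat.card tauQ.ker := by
  have : Nontrivial tauQ.ker :=
    ⟨⟨⟨⟨c, c_mem_Q⟩, by simp [tauQ, pi_c]⟩, 1, fun h => c_ne_one (congrArg (fun t : tauQ.ker => ((t : ↥Q) : P0)) h)⟩⟩
  exact Finite.one_lt_card

theorem perm_three_metabelian : ∀ a b : Equiv.Perm (Fin 3), ∀ d e : Equiv.Perm (Fin 3),
    ⁅⁅a, b⁆, ⁅d, e⁆⁆ = 1 := by
  simp only [commutatorElement_def]
  decide +kernel

theorem eq_one_of_perfect {G : Type*} [Group G] (hG : commutator G = ⊤) {S : Type*} [Finite S]
    (hS : Nat.card S ≤ 3) (f : G →* Equiv.Perm S) : f = 1 := by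
  classical
  have : Fintype S := Fintype.ofFinite S
  rw [Nat.card_eq_fintype_card] at hS
  let ι : S ↪ Fin 3 := (Fintype.equivFin S).toEmbedding.trans (Fin.castLEEmb hS)
  let F : G →* Equiv.Perm (Fin 3) := (Equiv.Perm.viaEmbeddingHom ι).comp f
  have hF : F = 1 := by
    have h2 : (⊤ : Subgroup G) = ⁅⁅(⊤ : Subgroup G), (⊤ : Subgroup G)⁆, ⁅(⊤ : Subgroup G), (⊤ : Subgroup G)⁆⁆ := by
      rw [← commutator_def, hG, ← commutator_def, hG]
    have hle : (⊤ : Subgroup G) ≤ F.ker := by
      rw [h2, Subgroup.commutator_le]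
      intro p hp q hq
      have key : ∀ p ∈ ⁅(⊤ : Subgroup G), (⊤ : Subgroup G)⁆, ∀ a b : Equiv.Perm (Fin 3), F p * ⁅a, b⁆ = ⁅a, b⁆ * F p := by
        intro p hp a b
        have : ⁅(⊤ : Subgroup G), (⊤ : Subgroup G)⁆ ≤ (Subgroup.centralizer {⁅a, b⁆}).comap F := by
          rw [Subgroup.commutator_le]
          intro u _ v _
          rw [Subgroup.mem_comap, Subgroup.mem_centralizer_singleton_iff, map_commutatorElement]
          exact commutatorElement_eq_one_iff_mul_comm.1 (perm_three_metabelian _ _ _ _)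
        exact Subgroup.mem_centralizer_singleton_iff.1 (this hp)
      have hall : ∀ q ∈ ⁅(⊤ : Subgroup G), (⊤ : Subgroup G)⁆, F q * F p = F p * F q := by
        intro q hq
        have : ⁅(⊤ : Subgroup G), (⊤ : Subgroup G)⁆ ≤ (Subgroup.centralizer {F p}).comap F := by
          rw [Subgroup.commutator_le]
          intro u _ v _
          rw [Subgroup.mem_comap, Subgroup.mem_centralizer_singleton_iff, map_commutatorElement]
          exact (key p hp _ _).symm
        exact Subgroup.mem_centralizer_singleton_iff.1 (this hq)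
      rw [MonoidHom.mem_ker, map_commutatorElement, commutatorElement_eq_one_iff_mul_comm]
      exact (hall q hq).symm
    exact MonoidHom.ext fun g => hle (Subgroup.mem_top g)
  exact MonoidHom.ext fun g => Equiv.Perm.viaEmbeddingHom_injective ι (by
    show F g = _
    rw [hF, MonoidHom.one_apply, MonoidHom.one_apply, map_one])

theorem perfect_Q : commutator ↥Q = ⊤ :=
  Subgroup.map_injective Q.subtype_injective (by
    rw [Subgroup.map_subtype_commutator, Q_perfect, ← MonoidHom.range_eq_map, Subgroup.range_subtype])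

theorem RQ_eq : RQ = act.range := by
  have h1 : 2 * Nat.card RQ ≤ Nat.card Q := by
    rw [← card_ker_mul]; exact Nat.mul_le_mul_right _ (two_le_ker)
  have h2 := two_mul_card_Q
  have h3 := card_P0.2
  set S := act.range.subgroupOf RQ with hS
  have hcard : Nat.card S = 44352000 := by
    rw [Nat.card_congr (Subgroup.subgroupOfEquivOfLe act_le_RQ).toEquiv, card_range_act]
  have hidx : S.index ≤ 3 := by
    have := S.index_mul_card
    rw [hcard] at this
    omega
  let g : ↥Q →* Equiv.Perm (↥RQ ⧸ S) := (MulAction.toPermHom ↥RQ (↥RQ ⧸ S)).comp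
    (tauQ.codRestrict RQ fun q => ⟨q.1, q.2, rfl⟩)
  have hg := eq_one_of_perfect perfect_Q (S := ↥RQ ⧸ S) (by rwa [← Subgroup.index_eq_card]) g
  refine le_antisymm ?_ act_le_RQ
  rintro _ ⟨q, hq, rfl⟩
  have e := congrArg (fun σ : Equiv.Perm (↥RQ ⧸ S) => σ ((1 : ↥RQ) : ↥RQ ⧸ S))
    (DFunLike.congr_fun hg ⟨q, hq⟩)
  simp only [g, MonoidHom.coe_comp, Function.comp_apply, MulAction.toPermHom_apply, MulAction.toPerm_apply,
    MulAction.Quotient.smul_coe, smul_eq_mul, mul_one, MonoidHom.one_apply, Equiv.Perm.one_apply] at e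
  have := QuotientGroup.eq.1 e.symm
  simpa [hS, Subgroup.mem_subgroupOf, tauQ] using this

theorem mem_act_range (q : ↥Q) : tauQ q ∈ act.range := by
  rw [← RQ_eq]; exact ⟨q.1, q.2, rfl⟩

/-- The map onto the simple group. -/
noncomputable def toSimple : ↥Q →* ↥act.range :=
  tauQ.codRestrict act.range fun q => mem_act_range q

theorem toSimple_surjective : Function.Surjective (toSimple) := by
  rintro ⟨r, hr⟩
  rw [← RQ_eq, ← range_tauQ] at hr
  obtain ⟨q, hq⟩ := hr
  exact ⟨q, Subtype.ext hq⟩

theorem ker_toSimple : (toSimple).ker = tauQ.ker := MonoidHom.ker_codRestrict _ _ _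

theorem card_ker_le_six : Nat.card tauQ.ker ≤ 6 := by
  have h := card_ker_mul
  rw [RQ_eq, card_range_act] at h
  have h2 := two_mul_card_Q
  have h3 := card_P0.2
  omega

theorem ker_comm : ∀ a b : tauQ.ker, a * b = b * a := by
  let c' : tauQ.ker := ⟨⟨c, c_mem_Q⟩, by simp [tauQ, pi_c]⟩
  have hcen : ∀ a : tauQ.ker, a * c' = c' * a := fun a =>
    Subtype.ext (Subtype.ext (Subgroup.mem_center_iff.1 c_central _))
  have hne : c' ≠ 1 := fun h => c_ne_one (congrArg (fun t : tauQ.ker => ((t : ↥Q) : P0)) h)
  have hle : Subgroup.zpowers c' ≤ Subgroup.center tauQ.ker :=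
    Subgroup.zpowers_le.2 (Subgroup.mem_center_iff.2 hcen)
  have : (Subgroup.zpowers c').Normal :=
    ⟨fun n hn g => by rwa [Subgroup.mem_center_iff.1 (hle hn) g, mul_inv_cancel_right]⟩
  have hidx := (Subgroup.zpowers c').index_mul_card
  have h2 : 2 ≤ Nat.card (Subgroup.zpowers c') := by
    have : Nontrivial (Subgroup.zpowers c') :=
      ⟨⟨⟨c', Subgroup.mem_zpowers c'⟩, 1, fun h => hne (congrArg Subtype.val h)⟩⟩
    exact Finite.one_lt_card
  have hq : Nat.card (tauQ.ker ⧸ Subgroup.zpowers c') ≤ 3 := by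
    rw [← Subgroup.index_eq_card]
    have := card_ker_le_six
    nlinarith
  have : IsCyclic (tauQ.ker ⧸ Subgroup.zpowers c') := by
    have hpos : 0 < Nat.card (tauQ.ker ⧸ Subgroup.zpowers c') := Nat.card_pos
    interval_cases hn : Nat.card (tauQ.ker ⧸ Subgroup.zpowers c')
    · have := (Nat.card_eq_one_iff_unique.1 hn).1
      infer_instance
    · have : Fact (Nat.Prime 2) := ⟨Nat.prime_two⟩
      exact isCyclic_of_prime_card hn
    · have : Fact (Nat.Prime 3) := ⟨Nat.prime_three⟩
      exact isCyclic_of_prime_card hn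
  exact commutative_of_cyclic_center_quotient (QuotientGroup.mk' (Subgroup.zpowers c'))
    (by rw [QuotientGroup.ker_mk']; exact hle)

theorem card_Q_ge : 44352000 ≤ Nat.card Q := by
  rw [← card_ker_mul, RQ_eq, card_range_act]
  exact Nat.le_mul_of_pos_left _ Nat.card_pos

theorem ker_central : tauQ.ker ≤ Subgroup.center ↥Q := by
  classical
  let f : ↥Q →* Equiv.Perm ↥tauQ.ker :=
    MonoidHom.mk' (fun q => (MulAut.conjNormal q : MulAut ↥tauQ.ker).toEquiv) fun a b => by
      rw [map_mul]; rfl
  have : (f.ker.map toSimple).Normal := Subgroup.Normal.map inferInstance _ toSimple_surjective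
  rcases this.eq_bot_or_eq_top with h | h
  · exfalso
    have h1 : f.ker ≤ tauQ.ker := by
      intro x hx
      rw [← ker_toSimple]
      exact (Subgroup.map_eq_bot_iff _).1 h hx
    have h2 : Nat.card f.ker ≤ 6 := (Subgroup.card_le_of_le h1).trans card_ker_le_six
    have h3 : f.ker.index ≤ 720 := by
      rw [Subgroup.index_ker]
      refine (Subgroup.card_le_card_group _).trans ?_
      rw [Nat.card_perm]
      exact (Nat.factorial_le card_ker_le_six).trans (by decide)
    have h4 := f.ker.index_mul_card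
    have h5 := card_Q_ge
    have := Nat.mul_le_mul h3 h2
    omega
  · intro k hk
    rw [Subgroup.mem_center_iff]
    intro q
    obtain ⟨n, hn, e⟩ : toSimple q ∈ f.ker.map toSimple := by rw [h]; exact Subgroup.mem_top _
    have hr : n⁻¹ * q ∈ tauQ.ker := by
      rw [← ker_toSimple, MonoidHom.mem_ker, map_mul, map_inv, e, inv_mul_cancel]
    have h1 : n * k * n⁻¹ = k :=
      congrArg Subtype.val (congrArg (fun σ : Equiv.Perm ↥tauQ.ker => σ ⟨k, hk⟩) (MonoidHom.mem_ker.1 hn) :)
    have h2 : (n⁻¹ * q) * k = k * (n⁻¹ * q) := congrArg Subtype.val (ker_comm ⟨_, hr⟩ ⟨k, hk⟩)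
    calc q * k = n * ((n⁻¹ * q) * k) := by group
      _ = n * (k * (n⁻¹ * q)) := by rw [h2]
      _ = (n * k * n⁻¹) * q := by group
      _ = k * q := by rw [h1]

theorem card_ker_two : Nat.card tauQ.ker = 2 := by
  refine le_antisymm ?_ two_le_ker
  let e : HS0 ≃* ↥act.range := MonoidHom.ofInjective act_injective
  let σ : ↥Q →* HS0 := e.symm.toMonoidHom.comp toSimple
  have hk : σ.ker = tauQ.ker := by
    rw [← ker_toSimple]
    ext q
    simp [σ]
  have hσ : Cfsg.IsStemExtension σ :=
    ⟨e.symm.surjective.comp toSimple_surjective, hk ▸ ker_central, by rw [perfect_Q]; exact le_top⟩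
  have := HsMult.card_ker_le σ hσ
  rwa [hk] at this

end CfsgLib.Sporadic.HNGroup
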