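import Cfsg.Agent.Lib.Sporadic.HNGroup.Derived
import Cfsg.Agent.Lib.Sporadic.HNRep.Hom

/-!
# The map to the presented Harada–Norton group (owner: helper25)
-/

set_option autoImplicit false
set_option maxRecDepth 20000

namespace CfsgLib.Sporadic.HNGroup

open Cfsg

/-- The three generators. -/
def gen3 : Fin 3 → Spor.HN.Gen
  | 0 => .x
  | 1 => .y
  | 2 => .z

/-- The images of the three generators. -/
def imGen (i : Fin 3) : Spor.HN := PresentedGroup.of (gen3 i)

/-- A letter in the large group. -/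
def hnLetter (k : ℕ) : Spor.HN := FreeGroup.lift imGen (fr k)

theorem hnLetter_code : ∀ p : Spor.HN.Gen × Bool, HNRep.code p < 6 →
    hnLetter (HNRep.code p) = cond p.2 (PresentedGroup.of p.1) (PresentedGroup.of p.1)⁻¹ := by
  rintro ⟨_ | _ | _ | _, _ | _⟩ h <;>
    first
    | (simp [HNRep.code] at h; done)
    | (simp [HNRep.code, hnLetter, fr, imGen, gen3, FreeGroup.lift_apply_of]; done)

theorem words_lt : words10.all (fun w => w.all fun k => Nat.blt k 6) = true := by decide +kernel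

theorem hn_rel {w : List ℕ} (hw : w ∈ words10) : (w.map hnLetter).prod = 1 := by
  have hlt : ∀ k ∈ w, k < 6 := fun k hk => by
    simpa using List.all_eq_true.1 (List.all_eq_true.1 words_lt w hw) k hk
  have hw' : w ∈ HNRep.relWords := List.mem_of_mem_take hw
  rw [← HNRep.relWords_eq] at hw'
  obtain ⟨r, hr, rfl⟩ := List.mem_map.1 hw'
  have h1 : PresentedGroup.mk (Spor.coxRelators Spor.HN.edges ∪ {r | r ∈ Spor.HN.extra}) r = 1 :=
    PresentedGroup.one_of_mem (Or.inr hr)
  rw [← h1]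
  conv_rhs => rw [← FreeGroup.mk_toWord (x := r)]
  rw [HNRep.lettersOf] at hlt ⊢
  rw [List.map_map]
  generalize r.toWord = l at hlt ⊢
  induction l with
  | nil => simp [← FreeGroup.one_eq_mk]
  | cons p l ih =>
    rw [List.map_cons, List.prod_cons, ih fun k hk => hlt k (List.mem_cons_of_mem _ hk),
      show FreeGroup.mk (p :: l) = FreeGroup.mk [p] * FreeGroup.mk l from rfl, map_mul]
    congr 1
    rw [Function.comp_apply, hnLetter_code p (hlt _ List.mem_cons_self)]
    obtain ⟨y, e⟩ := p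
    cases e
    · show _ = PresentedGroup.mk _ (FreeGroup.of y)⁻¹
      rw [map_inv]; rfl
    · rfl

/-- The map. -/
def toHN : P0 →* Spor.HN :=
  PresentedGroup.toGroup (f := imGen) (by
    rintro r ⟨w, hw, rfl⟩
    rw [map_list_prod, List.map_map]
    exact hn_rel hw)

theorem toHN_L (k : ℕ) : toHN (L k) = hnLetter k := rfl

theorem toHN_x : toHN (L 0) = PresentedGroup.of Spor.HN.Gen.x := by
  rw [toHN_L]; exact hnLetter_code (.x, true) (by decide)

theorem toHN_y : toHN (L 2) = PresentedGroup.of Spor.HN.Gen.y := by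
  rw [toHN_L]; exact hnLetter_code (.y, true) (by decide)

theorem toHN_z : toHN (L 4) = PresentedGroup.of Spor.HN.Gen.z := by
  rw [toHN_L]; exact hnLetter_code (.z, true) (by decide)

theorem toHN_c_ne : toHN c ≠ 1 := fun h => HNRep.unit_sq_ne (by
  have h' := congrArg HNRep.rho h
  rwa [c, map_mul, map_mul, map_one, toHN_x, HNRep.rho_of] at h')

theorem c_ne_one : c ≠ 1 := fun h => toHN_c_ne (by rw [h, map_one])

theorem range_toHN : toHN.range = (Subgroup.closure ({Spor.HN.x, Spor.HN.y, Spor.HN.z} :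
    Set (FreeGroup Spor.HN.Gen))).map
      (PresentedGroup.mk (Spor.coxRelators Spor.HN.edges ∪ {r | r ∈ Spor.HN.extra})) := by
  rw [MonoidHom.range_eq_map, ← L_closure, MonoidHom.map_closure, MonoidHom.map_closure]
  congr 1
  ext g
  constructor
  · rintro ⟨_, ⟨k, hk, rfl⟩, rfl⟩
    simp only [List.mem_cons, List.not_mem_nil, or_false] at hk
    rcases hk with rfl | rfl | rfl
    exacts [⟨Spor.HN.x, by simp, toHN_x.symm⟩, ⟨Spor.HN.y, by simp, toHN_y.symm⟩, ⟨Spor.HN.z, by simp, toHN_z.symm⟩]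
  · rintro ⟨r, hr, rfl⟩
    simp only [Set.mem_insert_iff, Set.mem_singleton_iff] at hr
    rcases hr with rfl | rfl | rfl
    exacts [⟨L 0, ⟨0, by simp, rfl⟩, toHN_x⟩, ⟨L 2, ⟨2, by simp, rfl⟩, toHN_y⟩, ⟨L 4, ⟨4, by simp, rfl⟩, toHN_z⟩]

end CfsgLib.Sporadic.HNGroup
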